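import Mathlib.AlgebraicGeometry.Morphisms.Etale
import Mathlib.AlgebraicGeometry.Morphisms.Flat
import Mathlib.AlgebraicGeometry.Noetherian
import Mathlib.AlgebraicGeometry.Properties
import Mathlib.RingTheory.Etale.Kaehler
import Mathlib.RingTheory.Ideal.KrullsHeightTheorem
import Mathlib.RingTheory.Ideal.GoingDown
import Mathlib.RingTheory.Kaehler.JacobiZariski
import Mathlib.RingTheory.Smooth.StandardSmoothCotangent
import Mathlib.RingTheory.TensorProduct.Free

/-!
# A morphism of smooth schemes which is etale in codimension at most one is etale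
-/

set_option autoImplicit false
set_option linter.style.haveILetI false
set_option backward.isDefEq.respectTransparency.types false

universe u

open CategoryTheory Limits AlgebraicGeometry
open scoped TensorProduct

namespace Groth.Agent.EtCodim19

section Ring

open KaehlerDifferential

/-- A linear map of free modules whose base changes are bijective near every prime of height at most one is
bijective. -/
theorem bijective_of_height_le_one {D : Type u} [CommRing D] [IsNoetherianRing D] {M N : Type u} [AddCommGroup M]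
    [Module D M] [Module.Free D M] [Module.Finite D M] [AddCommGroup N] [Module D N] [Module.Free D N]
    [Module.Finite D N] (L : M →ₗ[D] N)
    (h : ∀ P : Ideal D, P.IsPrime → P.height ≤ 1 →
      ∃ g, g ∉ P ∧ Function.Bijective (L.baseChange (Localization.Away g))) : Function.Bijective L := by
  classical
  rcases subsingleton_or_nontrivial D with hD | hD
  · haveI := Module.subsingleton D M
    haveI := Module.subsingleton D N
    exact ⟨fun _ _ _ => Subsingleton.elim _ _, fun y => ⟨0, Subsingleton.elim _ _⟩⟩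
  let bM := Module.Free.chooseBasis D M
  let bN := Module.Free.chooseBasis D N
  obtain ⟨⟨P₀, hP₀⟩⟩ := Ideal.nonempty_minimalPrimes (bot_ne_top : (⊥ : Ideal D) ≠ ⊤)
  haveI : P₀.IsPrime := hP₀.isPrime
  obtain ⟨g₀, hg₀, hb₀⟩ := h P₀ inferInstance (Ideal.height_le_one_of_isPrincipal_of_mem_minimalPrimes ⊥ P₀ hP₀)
  haveI : Nontrivial (Localization.Away g₀) := by
    refine not_subsingleton_iff_nontrivial.1 fun hs => hg₀ ?_
    obtain ⟨⟨_, n, rfl⟩, hn⟩ := (IsLocalization.eq_iff_exists (Submonoid.powers g₀) (Localization.Away g₀)).1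
      (Subsingleton.elim (algebraMap D (Localization.Away g₀) 1) (algebraMap D (Localization.Away g₀) 0))
    refine (‹P₀.IsPrime›).mem_of_pow_mem n ?_
    rw [show g₀ ^ n = 0 by simpa using hn]
    exact zero_mem _
  let σ := (Algebra.TensorProduct.basis (Localization.Away g₀) bM).indexEquiv
    ((Algebra.TensorProduct.basis (Localization.Away g₀) bN).map (LinearEquiv.ofBijective _ hb₀).symm)
  let bN' := bN.reindex σ.symm
  let A := LinearMap.toMatrix bM bN' L
  suffices hu : IsUnit A.det by
    exact (LinearEquiv.ofIsUnitDet (v := bM) (v' := bN') (f := L) hu).bijective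
  by_contra hu
  obtain ⟨⟨P, hP⟩⟩ := Ideal.nonempty_minimalPrimes (show Ideal.span {A.det} ≠ ⊤ by rwa [Ne, Ideal.span_singleton_eq_top])
  haveI : P.IsPrime := hP.isPrime
  obtain ⟨g, hg, hb⟩ := h P inferInstance (Ideal.height_le_one_of_isPrincipal_of_mem_minimalPrimes _ _ hP)
  let T := Localization.Away g
  have hdet : IsUnit (algebraMap D T A.det) := by
    have h1 : LinearMap.toMatrix (Algebra.TensorProduct.basis T bM) (Algebra.TensorProduct.basis T bN') (L.baseChange T) = A.map (algebraMap D T) :=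
      LinearMap.toMatrix_baseChange T L bM bN'
    have h2 : IsUnit (LinearMap.toMatrix (Algebra.TensorProduct.basis T bM) (Algebra.TensorProduct.basis T bN')
        ((LinearEquiv.ofBijective _ hb) : T ⊗[D] M →ₗ[T] T ⊗[D] N)).det :=
      LinearEquiv.isUnit_det (LinearEquiv.ofBijective _ hb) (Algebra.TensorProduct.basis T bM) (Algebra.TensorProduct.basis T bN')
    rw [show ((LinearEquiv.ofBijective _ hb) : T ⊗[D] M →ₗ[T] T ⊗[D] N) = L.baseChange T from LinearMap.ext fun _ => rfl,
      h1] at h2
    rwa [RingHom.map_det]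
  obtain ⟨v, hv⟩ := hdet.exists_right_inv
  obtain ⟨⟨w, _, n, rfl⟩, rfl⟩ := IsLocalization.mk'_surjective (Submonoid.powers g) v
  dsimp only at hv
  rw [IsLocalization.mul_mk'_eq_mk'_of_mul, IsLocalization.mk'_eq_iff_eq_mul, one_mul] at hv
  obtain ⟨⟨_, m, rfl⟩, hm⟩ := (IsLocalization.eq_iff_exists (Submonoid.powers g) T).1 hv
  have hmem : g ^ m * g ^ n ∈ P := by
    rw [← (hm : g ^ m * (A.det * w) = g ^ m * g ^ n)]
    exact P.mul_mem_left _ (P.mul_mem_right _ (hP.1.2 (Ideal.mem_span_singleton_self _)))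
  rw [← pow_add] at hmem
  exact hg (hP.isPrime.mem_of_pow_mem _ hmem)

theorem formallyEtale_of_bijective {A C D : Type u} [CommRing A] [CommRing C] [CommRing D] [Algebra A C] [Algebra A D]
    [Algebra C D] [IsScalarTower A C D] [Algebra.FormallySmooth A D]
    (h : Function.Bijective (mapBaseChange A C D)) : Algebra.FormallyEtale C D := by
  refine ⟨subsingleton_of_forall_eq 0 fun x => ?_, subsingleton_of_forall_eq 0 fun x => ?_⟩
  · obtain ⟨y, rfl⟩ := KaehlerDifferential.map_surjective A C D x
    obtain ⟨z, rfl⟩ := h.2 y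
    exact (exact_mapBaseChange_map A C D).apply_apply_eq_zero z
  · have h1 : Algebra.H1Cotangent.δ A C D x = 0 :=
      h.1 ((Algebra.H1Cotangent.exact_δ_mapBaseChange A C D).apply_apply_eq_zero x |>.trans (map_zero _).symm)
    obtain ⟨y, rfl⟩ := (Algebra.H1Cotangent.exact_map_δ A C D x).1 h1
    rw [Subsingleton.elim y 0, map_zero]

/-- Etaleness of a map of smooth algebras is detected in height at most one. -/
theorem etale_of_height_le_one {A C D : Type u} [CommRing A] [CommRing C] [CommRing D] [Algebra A C] [Algebra A D]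
    [Algebra C D] [IsScalarTower A C D] [IsNoetherianRing D] [Algebra.IsStandardSmooth A C]
    [Algebra.IsStandardSmooth A D]
    (h : ∀ P : Ideal D, P.IsPrime → P.height ≤ 1 →
      ∃ g, g ∉ P ∧ Algebra.FormallyEtale C (Localization.Away g)) : Algebra.FormallyEtale C D := by
  refine formallyEtale_of_bijective (bijective_of_height_le_one (mapBaseChange A C D) fun P hP hP1 => ?_)
  obtain ⟨g, hg, het⟩ := h P hP hP1
  refine ⟨g, hg, ?_⟩
  let T := Localization.Away g
  haveI := het
  haveI : Algebra.FormallyEtale D T := Algebra.FormallyEtale.of_isLocalization (Submonoid.powers g)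
  let e₁ := tensorKaehlerEquivOfFormallyEtale A C T
  let e₂ := tensorKaehlerEquivOfFormallyEtale A D T
  let c := TensorProduct.AlgebraTensorModule.cancelBaseChange C D T T Ω[C⁄A]
  have hc : ∀ x, e₂ ((mapBaseChange A C D).baseChange T x) = e₁ (c x) := by
    intro x
    induction x using TensorProduct.induction_on with
    | zero => simp
    | add a b ha hb => simp only [map_add, ha, hb]
    | tmul t x =>
      induction x using TensorProduct.induction_on with
      | zero => simp
      | add a b ha hb => simp only [TensorProduct.tmul_add, map_add, ha, hb]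
      | tmul d w =>
        simp only [e₁, e₂, c, tensorKaehlerEquivOfFormallyEtale_apply, LinearMap.baseChange_tmul,
          mapBaseChange_tmul, map_smul, TensorProduct.AlgebraTensorModule.cancelBaseChange_tmul]
        rw [← algebraMap_smul T d, smul_smul, Algebra.smul_def, mul_comm t]
        congr 1
        have hw : w ∈ Submodule.span C (Set.range (KaehlerDifferential.D A C)) := by rw [span_range_derivation]; trivial
        induction hw using Submodule.span_induction with
        | mem y hy =>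
          obtain ⟨c, rfl⟩ := hy
          rw [map_D, map_D, map_D, ← IsScalarTower.algebraMap_apply]
        | zero => simp
        | add a b _ _ ha hb => simp only [map_add, ha, hb]
        | smul r a _ ha =>
          rw [LinearMap.map_smul (map A A C D) r a, ← algebraMap_smul D r (map A A C D a),
            LinearMap.map_smul (map A A D T), algebraMap_smul, ha, LinearMap.map_smul (map A A C T)]
  have hb : Function.Bijective (fun x => e₂.symm (e₁ (c x))) :=
    e₂.symm.bijective.comp (e₁.bijective.comp c.bijective)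
  exact (funext fun x => e₂.injective (by rw [hc, LinearEquiv.apply_symm_apply]) :
    ((mapBaseChange A C D).baseChange T : _ → _) = fun x => e₂.symm (e₁ (c x))) ▸ hb

end Ring

/-- A morphism of smooth schemes over a base which is etale in codimension at most one is etale. -/
theorem etale_of_codim_le_one {G H S : Scheme.{u}} [IsLocallyNoetherian G] (f : G ⟶ H) (p : G ⟶ S) (q : H ⟶ S)
    [Smooth p] [Smooth q] (hfq : f ≫ q = p)
    (hcod : ∀ y : G, ringKrullDim (G.presheaf.stalk y) ≤ 1 → ∃ W : G.Opens, y ∈ W ∧ Etale (W.ι ≫ f)) :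
    Etale f := by
  subst hfq
  suffices hloc : ∀ x : G, ∃ W : G.Opens, x ∈ W ∧ Etale (W.ι ≫ f) by
    choose W hxW hW using hloc
    exact IsZariskiLocalAtSource.of_iSup_eq_top (P := @Etale) W
      (top_le_iff.1 fun x _ => TopologicalSpace.Opens.mem_iSup.2 ⟨x, hxW x⟩) hW
  intro x
  obtain ⟨U, hU, V, hV, hxV, e, hsm⟩ := Smooth.exists_isStandardSmooth q (f x)
  obtain ⟨W₀, hW₀, hxW₀, hW₀V⟩ := exists_isAffineOpen_mem_and_subset (U := f ⁻¹ᵁ V) (x := x) hxV
  have e₀ : W₀ ≤ (f ≫ q) ⁻¹ᵁ U := fun z hz => e (hW₀V hz)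
  have hp := HasRingHomProperty.appLE (P := @Smooth) (f ≫ q) inferInstance ⟨U, hU⟩ ⟨W₀, hW₀⟩ e₀
  letI : Algebra Γ(S, U) Γ(G, W₀) := ((f ≫ q).appLE U W₀ e₀).hom.toAlgebra
  haveI : Algebra.Smooth Γ(S, U) Γ(G, W₀) := hp
  obtain ⟨s, hs, hst⟩ := Algebra.Smooth.exists_span_eq_top_isStandardSmooth Γ(S, U) Γ(G, W₀)
  obtain ⟨t, ht, htx⟩ : ∃ t ∈ s, t ∉ (hW₀.primeIdealOf ⟨x, hxW₀⟩).asIdeal := by
    by_contra hc
    push Not at hc
    exact (hW₀.primeIdealOf ⟨x, hxW₀⟩).isPrime.ne_top (top_le_iff.1 (hs ▸ Ideal.span_le.2 hc))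
  let W := G.basicOpen t
  have hW : IsAffineOpen W := hW₀.basicOpen t
  have hWW₀ : W ≤ W₀ := G.basicOpen_le t
  have hxW : x ∈ W := by
    rw [G.mem_basicOpen t x hxW₀]
    let := G.presheaf.algebra_section_stalk (U := W₀) ⟨x, hxW₀⟩
    haveI := hW₀.isLocalization_stalk ⟨x, hxW₀⟩
    exact IsLocalization.map_units (G.presheaf.stalk x) (⟨t, htx⟩ : (hW₀.primeIdealOf ⟨x, hxW₀⟩).asIdeal.primeCompl)
  have eV : W ≤ f ⁻¹ᵁ V := fun z hz => hW₀V (hWW₀ hz)
  have eU : W ≤ (f ≫ q) ⁻¹ᵁ U := fun z hz => e₀ (hWW₀ hz)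
  letI : Algebra Γ(G, W₀) Γ(G, W) := (G.presheaf.map (homOfLE hWW₀).op).hom.toAlgebra
  haveI : IsLocalization.Away t Γ(G, W) := hW₀.isLocalization_basicOpen t
  letI : Algebra Γ(S, U) Γ(G, W) := ((f ≫ q).appLE U W eU).hom.toAlgebra
  haveI : IsScalarTower Γ(S, U) Γ(G, W₀) Γ(G, W) := IsScalarTower.of_algebraMap_eq' (by
    show ((f ≫ q).appLE U W eU).hom = (G.presheaf.map (homOfLE hWW₀).op).hom.comp ((f ≫ q).appLE U W₀ e₀).hom
    rw [← CommRingCat.hom_comp, Scheme.Hom.appLE_map])
  haveI : Algebra.IsStandardSmooth Γ(S, U) Γ(G, W) := by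
    haveI := hst t ht
    exact Algebra.IsStandardSmooth.of_algEquiv
      ((IsLocalization.algEquiv (Submonoid.powers t) (Localization.Away t) Γ(G, W)).restrictScalars Γ(S, U))
  letI : Algebra Γ(S, U) Γ(H, V) := (q.appLE U V e).hom.toAlgebra
  haveI : Algebra.IsStandardSmooth Γ(S, U) Γ(H, V) := hsm
  letI : Algebra Γ(H, V) Γ(G, W) := (f.appLE V W eV).hom.toAlgebra
  haveI : IsScalarTower Γ(S, U) Γ(H, V) Γ(G, W) := IsScalarTower.of_algebraMap_eq' (by
    show ((f ≫ q).appLE U W eU).hom = (f.appLE V W eV).hom.comp (q.appLE U V e).hom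
    rw [← CommRingCat.hom_comp, Scheme.Hom.appLE_comp_appLE])
  haveI : IsNoetherianRing Γ(G, W) := IsLocallyNoetherian.component_noetherian ⟨W, hW⟩
  haveI : Algebra.FormallyEtale Γ(H, V) Γ(G, W) := etale_of_height_le_one (A := Γ(S, U)) fun P hP hP1 => by
    let y : G := hW.fromSpec ⟨P, hP⟩
    have hyW : y ∈ W := hW.range_fromSpec.le ⟨_, rfl⟩
    have hprime : hW.primeIdealOf ⟨y, hyW⟩ = ⟨P, hP⟩ :=
      hW.fromSpec.isOpenEmbedding.injective (by rw [hW.fromSpec_primeIdealOf])
    let := G.presheaf.algebra_section_stalk (U := W) ⟨y, hyW⟩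
    haveI := hW.isLocalization_stalk ⟨y, hyW⟩
    obtain ⟨W', hyW', hW'⟩ := hcod y (by
      rw [IsLocalization.AtPrime.ringKrullDim_eq_height (hW.primeIdealOf ⟨y, hyW⟩).asIdeal, hprime]
      exact_mod_cast hP1)
    obtain ⟨g, hgW', hyg⟩ := hW.exists_basicOpen_le (V := W') ⟨y, hyW'⟩ hyW
    refine ⟨g, fun hgP => ?_, ?_⟩
    · have hu := (G.mem_basicOpen g y hyW).1 hyg
      exact (IsLocalization.AtPrime.isUnit_to_map_iff (G.presheaf.stalk y) (hW.primeIdealOf ⟨y, hyW⟩).asIdeal g).1 hu
        (by rw [hprime]; exact hgP)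
    · let W'' := G.basicOpen g
      have hW'' : IsAffineOpen W'' := hW.basicOpen g
      have e'' : W'' ≤ f ⁻¹ᵁ V := fun z hz => eV (G.basicOpen_le g hz)
      haveI : Etale (W''.ι ≫ f) := by
        rw [← G.homOfLE_ι hgW', Category.assoc]
        infer_instance
      haveI : Etale (Spec.map (f.appLE V W'' e'') ≫ hV.fromSpec) := by
        rw [hV.SpecMap_appLE_fromSpec f hW'' e'', ← hW''.isoSpec_inv_ι, Category.assoc]
        infer_instance
      haveI : Etale (Spec.map (f.appLE V W'' e'')) := Etale.of_comp _ hV.fromSpec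
      have het : (f.appLE V W'' e'').hom.Etale := (HasRingHomProperty.Spec_iff (P := @Etale)).1 ‹_›
      letI : Algebra Γ(G, W) Γ(G, W'') := (G.presheaf.map (homOfLE (G.basicOpen_le g)).op).hom.toAlgebra
      letI : Algebra Γ(H, V) Γ(G, W'') := (f.appLE V W'' e'').hom.toAlgebra
      haveI : IsScalarTower Γ(H, V) Γ(G, W) Γ(G, W'') := IsScalarTower.of_algebraMap_eq' (by
        show (f.appLE V W'' e'').hom = (G.presheaf.map (homOfLE (G.basicOpen_le g)).op).hom.comp (f.appLE V W eV).hom
        rw [← CommRingCat.hom_comp, Scheme.Hom.appLE_map])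
      haveI : IsLocalization.Away g Γ(G, W'') := hW.isLocalization_basicOpen g
      haveI : Algebra.Etale Γ(H, V) Γ(G, W'') := RingHom.etale_algebraMap.1 het
      exact Algebra.FormallyEtale.of_equiv
        ((IsLocalization.algEquiv (Submonoid.powers g) Γ(G, W'') (Localization.Away g)).restrictScalars Γ(H, V))
  haveI : Algebra.FinitePresentation Γ(H, V) Γ(G, W) :=
    Algebra.FinitePresentation.of_restrict_scalars_finitePresentation Γ(S, U) Γ(H, V) Γ(G, W)
  have het : (f.appLE V W eV).hom.Etale := RingHom.etale_algebraMap.2 (⟨inferInstance, inferInstance⟩ : Algebra.Etale _ _)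
  refine ⟨W, hxW, ?_⟩
  haveI : Etale (Spec.map (f.appLE V W eV)) := (HasRingHomProperty.Spec_iff (P := @Etale)).2 het
  rw [← hW.isoSpec_hom_fromSpec, Category.assoc, ← hV.SpecMap_appLE_fromSpec f hW eV]
  infer_instance

/-- The local dimension does not drop along flat morphisms. -/
theorem ringKrullDim_stalk_le {X Y : Scheme.{u}} (p : X ⟶ Y) [Flat p] (x : X) :
    ringKrullDim (Y.presheaf.stalk (p x)) ≤ ringKrullDim (X.presheaf.stalk x) := by
  letI := (p.stalkMap x).hom.toAlgebra
  haveI : Module.Flat (Y.presheaf.stalk (p x)) (X.presheaf.stalk x) := Flat.stalkMap p x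
  haveI : IsLocalHom (algebraMap (Y.presheaf.stalk (p x)) (X.presheaf.stalk x)) :=
    inferInstanceAs (IsLocalHom (p.stalkMap x).hom)
  haveI : Module.FaithfullyFlat (Y.presheaf.stalk (p x)) (X.presheaf.stalk x) :=
    Module.FaithfullyFlat.of_flat_of_isLocalHom
  refine iSup_le fun l => ?_
  obtain ⟨P, hP⟩ := PrimeSpectrum.comap_surjective_of_faithfullyFlat (A := Y.presheaf.stalk (p x))
    (B := X.presheaf.stalk x) l.last
  haveI : P.asIdeal.LiesOver l.last.asIdeal := ⟨(congrArg PrimeSpectrum.asIdeal hP).symm⟩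
  obtain ⟨L, hL, -⟩ := Ideal.exists_ltSeries_of_hasGoingDown l P.asIdeal
  exact hL ▸ Order.LTSeries.length_le_krullDim L

end Groth.Agent.EtCodim19
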